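import Mathlib
import Cfsg.Agent.Lib.helper14.UBNf

/-!
# Project SDM (designer helper18): definitions of the library QBN.
The isometry group `GO(V, Q)` of `V = F^n × W`, `Q(c, w) = ∑_{j < n/2} c_j c_{rv j} + Q₀(w)` (`n` even, `Q₀` anisotropic
on `W`; `rv j = n - 1 - j`), in ANY characteristic, with its frame `x_j = (e_j, 0)`, Siegel elements, permutation elements,
Borel subgroup `BQ` (stabiliser of the flag `V_j = ⟨x_i : i < j⟩`, `j ≤ n/2`), monomial subgroup `NQ`, torus `TQ`,
simple reflections `sQ k` (the permutation `tauS k` of helper14's UBN), root groups `Uk k`.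
The index combinatorics (`rk rv pa pc RvC tauS gphi`) is helper14's `Cfsg.Agent.Lib.helper14.UBN` (UBNa, UBNc, UBNf).
-/

set_option autoImplicit false
set_option linter.unusedSectionVars false
set_option linter.unusedSimpArgs false
set_option linter.unusedVariables false

namespace Cfsg.Agent.Lib.Helper18.QBN

open Cfsg.Agent.Lib.helper14.UBN QuadraticMap

universe u v

section general

variable {F : Type u} [Field F] {V : Type v} [AddCommGroup V] [Module F V]

/-- the isometry group of a quadratic form inside `V ≃ₗ[F] V` -/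
def OQ (Q : QuadraticForm F V) : Subgroup (V ≃ₗ[F] V) where
  carrier := {g | ∀ v, Q (g v) = Q v}
  mul_mem' := by
    intro a b ha hb v
    rw [LinearEquiv.mul_apply, ha, hb]
  one_mem' := fun _ => rfl
  inv_mem' := by
    intro a ha v
    have := ha (a⁻¹ v)
    rw [← this]
    congr 1
    exact LinearEquiv.apply_symm_apply a v

theorem mem_OQ (Q : QuadraticForm F V) (g : V ≃ₗ[F] V) : g ∈ OQ Q ↔ ∀ v, Q (g v) = Q v := Iff.rfl

theorem OQ_polar (Q : QuadraticForm F V) (g : ↥(OQ Q)) (u v : V) :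
    polar Q ((g : V ≃ₗ[F] V) u) ((g : V ≃ₗ[F] V) v) = polar Q u v := by
  unfold polar
  rw [← map_add, g.2, g.2, g.2]

/-- the Siegel map `v ↦ v + f(v,y) u - f(v,u) (y + Q(y) u)` -/
noncomputable def siegL (Q : QuadraticForm F V) (u y : V) : V →ₗ[F] V :=
  LinearMap.id + LinearMap.smulRight ((polarBilin Q).flip y) u -
    LinearMap.smulRight ((polarBilin Q).flip u) (y + Q y • u)

theorem siegL_apply (Q : QuadraticForm F V) (u y v : V) :
    siegL Q u y v = v + polar Q v y • u - polar Q v u • (y + Q y • u) := by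
  simp [siegL]

theorem siegL_Q (Q : QuadraticForm F V) {u y : V} (hu : Q u = 0) (huy : polar Q u y = 0) (v : V) :
    Q (siegL Q u y v) = Q v := by
  rw [siegL_apply]
  have hyu : polar Q y u = 0 := by rw [polar_comm]; exact huy
  have huu : polar Q u u = 0 := by rw [polar_self, hu, smul_zero]
  obtain ⟨z, hz⟩ : ∃ z : V, z = y + Q y • u := ⟨_, rfl⟩
  have hQz : Q z = Q y := by
    rw [hz, QuadraticMap.map_add (⇑Q) y (Q y • u), QuadraticMap.map_smul, hu, polar_smul_right, hyu]
    simp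
  have hvz : polar Q v z = polar Q v y + Q y * polar Q v u := by
    rw [hz, polar_add_right, polar_smul_right, smul_eq_mul]
  have huz : polar Q u z = 0 := by
    rw [hz, polar_add_right, polar_smul_right, huy, huu]
    simp
  rw [← hz, sub_eq_add_neg, ← neg_smul,
    QuadraticMap.map_add (⇑Q) (v + polar Q v y • u) ((-polar Q v u) • z),
    QuadraticMap.map_add (⇑Q) v (polar Q v y • u),
    QuadraticMap.map_smul, QuadraticMap.map_smul, hu, hQz, polar_add_left]
  simp only [polar_smul_left, polar_smul_right, huz, hvz, smul_eq_mul]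
  ring

theorem siegL_zero (Q : QuadraticForm F V) (u v : V) : siegL Q u 0 v = v := by
  rw [siegL_apply]
  simp

theorem siegL_comp (Q : QuadraticForm F V) {u y y' : V} (hu : Q u = 0) (huy : polar Q u y = 0)
    (huy' : polar Q u y' = 0) (v : V) :
    siegL Q u y (siegL Q u y' v) = siegL Q u (y + y') v := by
  have huu : polar Q u u = 0 := by rw [polar_self, hu, smul_zero]
  have hyu : polar Q y u = 0 := by rw [polar_comm]; exact huy
  have hyu' : polar Q y' u = 0 := by rw [polar_comm]; exact huy'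
  simp only [siegL_apply, polar_add_left, polar_add_right, polar_sub_left, polar_smul_left,
    polar_smul_right, huu, hyu, hyu', huy, huy', smul_eq_mul, mul_zero, add_zero, sub_zero,
    QuadraticMap.map_add (⇑Q) y y']
  rw [polar_comm Q y' y]
  module

theorem siegL_conj (Q : QuadraticForm F V) (g : ↥(OQ Q)) (u y v : V) :
    (g : V ≃ₗ[F] V) (siegL Q u y v) =
      siegL Q ((g : V ≃ₗ[F] V) u) ((g : V ≃ₗ[F] V) y) ((g : V ≃ₗ[F] V) v) := by
  have h : Q ((g : V ≃ₗ[F] V) y) = Q y := g.2 y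
  simp only [siegL_apply, map_add, map_sub, map_smul, OQ_polar, h]

/-- the Siegel element as a linear equivalence -/
noncomputable def siegE (Q : QuadraticForm F V) (u y : V) (hu : Q u = 0)
    (huy : polar Q u y = 0) : V ≃ₗ[F] V :=
  LinearEquiv.ofLinearMap (siegL Q u y) (siegL Q u (-y))
    (by
      ext v
      have h : polar Q u (-y) = 0 := by rw [polar_neg_right, huy, neg_zero]
      rw [LinearMap.comp_apply, siegL_comp Q hu huy h, add_neg_cancel, siegL_zero]
      rfl)
    (by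
      ext v
      have h : polar Q u (-y) = 0 := by rw [polar_neg_right, huy, neg_zero]
      rw [LinearMap.comp_apply, siegL_comp Q hu h huy, neg_add_cancel, siegL_zero]
      rfl)

/-- the Siegel element of the isometry group -/
noncomputable def siegG (Q : QuadraticForm F V) (u y : V) (hu : Q u = 0)
    (huy : polar Q u y = 0) : ↥(OQ Q) :=
  ⟨siegE Q u y hu huy, fun v => siegL_Q Q hu huy v⟩

theorem siegG_apply (Q : QuadraticForm F V) (u y : V) (hu : Q u = 0) (huy : polar Q u y = 0)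
    (v : V) : ((siegG Q u y hu huy : ↥(OQ Q)) : V ≃ₗ[F] V) v =
      v + polar Q v y • u - polar Q v u • (y + Q y • u) := siegL_apply Q u y v


end general

section frame

variable {F : Type u} [Field F] {W : Type v} [AddCommGroup W] [Module F W] {n : ℕ}

/-- the ambient space `F^n × W` -/
abbrev QV (F : Type u) (n : ℕ) (W : Type v) := (Fin n → F) × W

/-- the first half of the index set -/
def half (n : ℕ) : Finset (Fin n) := Finset.univ.filter (fun j => rk j < rk (rv j))

theorem mem_half (j : Fin n) : j ∈ half n ↔ rk j < rk (rv j) := by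
  unfold half
  rw [Finset.mem_filter]
  exact ⟨fun h => h.2, fun h => ⟨Finset.mem_univ _, h⟩⟩

theorem rv_ne_of_even (hn : Even n) (j : Fin n) : rv j ≠ j := by
  intro h
  have h1 := rk_add_rv j
  rw [h] at h1
  have h2 := rk_lt j
  obtain ⟨m, hm⟩ := hn
  omega

theorem rv_mem_half_iff (hn : Even n) (j : Fin n) : rv j ∈ half n ↔ j ∉ half n := by
  rw [mem_half, mem_half, rv_rv]
  have h := rv_ne_of_even hn j
  have h' : rk (rv j) ≠ rk j := fun e => h (rk_injective e)
  omega

/-- the hyperbolic quadratic form `∑_{j < n/2} c_j c_{rv j}` -/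
noncomputable def hypQ (F : Type u) [Field F] (n : ℕ) : QuadraticForm F (Fin n → F) :=
  ∑ j ∈ half n, QuadraticMap.linMulLin (LinearMap.proj j) (LinearMap.proj (rv j))

theorem hypQ_apply (c : Fin n → F) : hypQ F n c = ∑ j ∈ half n, c j * c (rv j) := by
  unfold hypQ
  rw [_root_.sum_apply]
  rfl

/-- the quadratic form `Q(c, w) = ∑_{j < n/2} c_j c_{rv j} + Q₀(w)` -/
noncomputable def frQ (n : ℕ) (Q₀ : QuadraticForm F W) : QuadraticForm F (QV F n W) :=
  (hypQ F n).prod Q₀

theorem frQ_apply (Q₀ : QuadraticForm F W) (v : QV F n W) :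
    frQ n Q₀ v = (∑ j ∈ half n, v.1 j * v.1 (rv j)) + Q₀ v.2 := by
  unfold frQ
  rw [QuadraticMap.prod_apply, hypQ_apply]

theorem sum_half_rv (hn : Even n) (f : Fin n → F) :
    ∑ j ∈ half n, f (rv j) = ∑ j ∈ (half n)ᶜ, f j := by
  apply Finset.sum_bij (fun j _ => rv j)
  · intro j hj
    rw [Finset.mem_compl, ← rv_mem_half_iff hn, rv_rv]
    exact hj
  · intro a _ b _ h
    exact rv_inj h
  · intro b hb
    refine ⟨rv b, ?_, rv_rv b⟩
    rw [rv_mem_half_iff hn]
    exact Finset.mem_compl.mp hb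
  · intro j _
    rfl

theorem frQ_polar (hn : Even n) (Q₀ : QuadraticForm F W) (u v : QV F n W) :
    polar (frQ n Q₀) u v = (∑ j, u.1 j * v.1 (rv j)) + polar Q₀ u.2 v.2 := by
  unfold polar
  rw [frQ_apply, frQ_apply, frQ_apply]
  have h1 : ∑ j ∈ half n, (u + v).1 j * (u + v).1 (rv j) - ∑ j ∈ half n, u.1 j * u.1 (rv j) -
      ∑ j ∈ half n, v.1 j * v.1 (rv j) = ∑ j, u.1 j * v.1 (rv j) := by
    rw [← Finset.sum_sub_distrib, ← Finset.sum_sub_distrib]
    have h2 : ∀ j ∈ half n, (u + v).1 j * (u + v).1 (rv j) - u.1 j * u.1 (rv j) -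
        v.1 j * v.1 (rv j) = u.1 j * v.1 (rv j) + u.1 (rv j) * v.1 (rv (rv j)) := by
      intro j _
      rw [rv_rv]
      simp only [Prod.fst_add, Pi.add_apply]
      ring
    rw [Finset.sum_congr rfl h2, Finset.sum_add_distrib,
      sum_half_rv hn (fun j => u.1 j * v.1 (rv j)), Finset.sum_add_sum_compl]
  rw [Prod.snd_add]
  linear_combination h1

/-- the frame vectors -/
def xv (W : Type v) [AddCommGroup W] [Module F W] (j : Fin n) : QV F n W := (Pi.single j 1, 0)

/-- the vectors of the anisotropic part -/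
def wv (F : Type u) [Field F] (n : ℕ) (w : W) : QV F n W := (0, w)

@[simp] theorem xv_fst (j i : Fin n) : (xv W j : QV F n W).1 i = if i = j then 1 else 0 := by
  show (Pi.single j (1 : F) : Fin n → F) i = _
  rw [Pi.single_apply]

@[simp] theorem xv_snd (j : Fin n) : (xv W j : QV F n W).2 = 0 := rfl

@[simp] theorem wv_fst (w : W) (i : Fin n) : (wv F n w).1 i = 0 := rfl

@[simp] theorem wv_snd (w : W) : (wv F n w).2 = w := rfl

theorem decomp (v : QV F n W) : v = ∑ j, v.1 j • xv W j + wv F n v.2 := by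
  apply Prod.ext
  · funext i
    rw [Prod.fst_add, Pi.add_apply, wv_fst, add_zero, Prod.fst_sum, Finset.sum_apply,
      Finset.sum_eq_single i]
    · rw [Prod.smul_fst, Pi.smul_apply, xv_fst, if_pos rfl, smul_eq_mul, mul_one]
    · intro j _ hj
      rw [Prod.smul_fst, Pi.smul_apply, xv_fst, if_neg (Ne.symm hj), smul_zero]
    · intro h
      exact absurd (Finset.mem_univ _) h
  · rw [Prod.snd_add, wv_snd, Prod.snd_sum]
    simp

theorem frQ_xv (Q₀ : QuadraticForm F W) (hn : Even n) (j : Fin n) : frQ n Q₀ (xv W j) = 0 := by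
  rw [frQ_apply, xv_snd, map_zero, add_zero]
  apply Finset.sum_eq_zero
  intro i _
  rw [xv_fst, xv_fst]
  by_cases h : i = j
  · have h' : rv i ≠ j := by
      rw [h]
      exact rv_ne_of_even hn j
    rw [if_neg h', mul_zero]
  · rw [if_neg h, zero_mul]

theorem frQ_wv (Q₀ : QuadraticForm F W) (w : W) : frQ n Q₀ (wv F n w) = Q₀ w := by
  rw [frQ_apply, wv_snd]
  simp

/-- the coordinate `c_j` of `v` is `f(v, x_{rv j})` -/
theorem polar_xv (hn : Even n) (Q₀ : QuadraticForm F W) (v : QV F n W) (j : Fin n) :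
    polar (frQ n Q₀) v (xv W j) = v.1 (rv j) := by
  rw [frQ_polar hn, xv_snd, polar_zero_right, add_zero, Finset.sum_eq_single (rv j)]
  · rw [xv_fst, rv_rv, if_pos rfl, mul_one]
  · intro i _ hi
    have h : rv i ≠ j := fun e => hi (by rw [← e, rv_rv])
    rw [xv_fst, if_neg h, mul_zero]
  · intro h
    exact absurd (Finset.mem_univ _) h

theorem polar_wv (hn : Even n) (Q₀ : QuadraticForm F W) (v : QV F n W) (w : W) :
    polar (frQ n Q₀) v (wv F n w) = polar Q₀ v.2 w := by
  rw [frQ_polar hn]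
  simp

/-- a sum over the first half of an `rv`-invariant function is invariant under `RvC` permutations -/
theorem sum_half_perm (hn : Even n) (π : Equiv.Perm (Fin n)) (hπ : RvC π) (f : Fin n → F)
    (hf : ∀ i, f (rv i) = f i) : ∑ j ∈ half n, f (π.symm j) = ∑ j ∈ half n, f j := by
  classical
  have h1 : ∑ j ∈ half n, f (π.symm j) = ∑ i, if π i ∈ half n then f i else 0 := by
    have e1 : ∑ j ∈ half n, f (π.symm j) = ∑ j, if j ∈ half n then f (π.symm j) else 0 := by
      rw [Finset.sum_ite_mem, Finset.univ_inter]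
    rw [e1, ← Equiv.sum_comp π (fun j => if j ∈ half n then f (π.symm j) else 0)]
    simp only [Equiv.symm_apply_apply]
  rw [h1, ← Finset.sum_add_sum_compl (half n) (fun i => if π i ∈ half n then f i else 0),
    ← sum_half_rv hn (fun i => if π i ∈ half n then f i else 0), ← Finset.sum_add_distrib]
  apply Finset.sum_congr rfl
  intro j _
  simp only [hπ j, hf j, rv_mem_half_iff hn]
  by_cases h : π j ∈ half n
  · rw [if_pos h, if_neg (not_not.mpr h), add_zero]
  · rw [if_neg h, if_pos h, zero_add]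

/-- the permutation map `(c, w) ↦ (c ∘ π⁻¹, w)` -/
noncomputable def permE (F : Type u) [Field F] (W : Type v) [AddCommGroup W] [Module F W]
    (π : Equiv.Perm (Fin n)) : QV F n W ≃ₗ[F] QV F n W :=
  LinearEquiv.prodCongr (LinearEquiv.funCongrLeft F F π.symm) (LinearEquiv.refl F W)

theorem permE_fst (π : Equiv.Perm (Fin n)) (v : QV F n W) (i : Fin n) :
    (permE F W π v).1 i = v.1 (π.symm i) := rfl

theorem permE_snd (π : Equiv.Perm (Fin n)) (v : QV F n W) : (permE F W π v).2 = v.2 := rfl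

theorem permE_xv (π : Equiv.Perm (Fin n)) (j : Fin n) : permE F W π (xv W j) = xv W (π j) := by
  apply Prod.ext
  · funext i
    rw [permE_fst, xv_fst, xv_fst]
    by_cases h : i = π j
    · rw [if_pos h, if_pos (by rw [h, Equiv.symm_apply_apply])]
    · rw [if_neg h, if_neg (fun e => h (by rw [← e, Equiv.apply_symm_apply]))]
  · rfl

theorem permE_wv (π : Equiv.Perm (Fin n)) (w : W) : permE F W π (wv F n w) = wv F n w := rfl

theorem permE_frQ (hn : Even n) (Q₀ : QuadraticForm F W) (π : Equiv.Perm (Fin n)) (hπ : RvC π)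
    (v : QV F n W) : frQ n Q₀ (permE F W π v) = frQ n Q₀ v := by
  rw [frQ_apply, frQ_apply, permE_snd]
  congr 1
  have h := sum_half_perm hn π hπ (fun i => v.1 i * v.1 (rv i)) (fun i => by
    show v.1 (rv i) * v.1 (rv (rv i)) = _
    rw [rv_rv, mul_comm])
  rw [← h]
  apply Finset.sum_congr rfl
  intro j _
  rw [permE_fst, permE_fst, RvC_symm hπ]


/-- the isometry group `GO(F^n × W, frQ)` as a type -/
abbrev GQ (n : ℕ) (Q₀ : QuadraticForm F W) := ↥(OQ (frQ n Q₀))

/-- coercion helper: the underlying linear equivalence -/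
abbrev le {Q₀ : QuadraticForm F W} (g : GQ n Q₀) : QV F n W ≃ₗ[F] QV F n W := (g : QV F n W ≃ₗ[F] QV F n W)

theorem le_mul {Q₀ : QuadraticForm F W} (g h : GQ n Q₀) (v : QV F n W) : le (g * h) v = le g (le h v) := rfl

theorem le_one {Q₀ : QuadraticForm F W} (v : QV F n W) : le (1 : GQ n Q₀) v = v := rfl

theorem le_inv_apply {Q₀ : QuadraticForm F W} (g : GQ n Q₀) (v : QV F n W) : le g (le g⁻¹ v) = v :=
  LinearEquiv.apply_symm_apply (le g) v

theorem le_inv_apply' {Q₀ : QuadraticForm F W} (g : GQ n Q₀) (v : QV F n W) : le g⁻¹ (le g v) = v :=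
  LinearEquiv.symm_apply_apply (le g) v

theorem le_Q {Q₀ : QuadraticForm F W} (g : GQ n Q₀) (v : QV F n W) : frQ n Q₀ (le g v) = frQ n Q₀ v := g.2 v

theorem le_polar {Q₀ : QuadraticForm F W} (g : GQ n Q₀) (u v : QV F n W) :
    polar (frQ n Q₀) (le g u) (le g v) = polar (frQ n Q₀) u v := OQ_polar _ g u v

theorem GQ_ext {Q₀ : QuadraticForm F W} {g h : GQ n Q₀} (H : ∀ v, le g v = le h v) : g = h :=
  Subtype.ext (LinearEquiv.ext H)

/-- the permutation element of `GO` -/
noncomputable def permG (hn : Even n) (Q₀ : QuadraticForm F W) (π : Equiv.Perm (Fin n)) (hπ : RvC π) :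
    GQ n Q₀ := ⟨permE F W π, permE_frQ hn Q₀ π hπ⟩

theorem permG_xv (hn : Even n) (Q₀ : QuadraticForm F W) (π : Equiv.Perm (Fin n)) (hπ : RvC π)
    (j : Fin n) : le (permG hn Q₀ π hπ) (xv W j) = xv W (π j) := permE_xv π j

theorem permG_wv (hn : Even n) (Q₀ : QuadraticForm F W) (π : Equiv.Perm (Fin n)) (hπ : RvC π)
    (w : W) : le (permG hn Q₀ π hπ) (wv F n w) = wv F n w := rfl

theorem permG_fst (hn : Even n) (Q₀ : QuadraticForm F W) (π : Equiv.Perm (Fin n)) (hπ : RvC π)
    (v : QV F n W) (i : Fin n) : (le (permG hn Q₀ π hπ) v).1 i = v.1 (π.symm i) := rfl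

theorem permG_snd (hn : Even n) (Q₀ : QuadraticForm F W) (π : Equiv.Perm (Fin n)) (hπ : RvC π)
    (v : QV F n W) : (le (permG hn Q₀ π hπ) v).2 = v.2 := rfl

/-- the simple reflections -/
noncomputable def sQ (hn : Even n) (Q₀ : QuadraticForm F W) (k : Fin (n / 2)) : GQ n Q₀ :=
  permG hn Q₀ (tauS k) (RvC_tauS k)

/-- the span of the first `j` frame vectors -/
def Vfl (F : Type u) [Field F] (n : ℕ) (W : Type v) [AddCommGroup W] [Module F W] (j : ℕ) :
    Submodule F (QV F n W) where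
  carrier := {v | v.2 = 0 ∧ ∀ i : Fin n, j ≤ rk i → v.1 i = 0}
  add_mem' := by
    rintro a b ⟨ha1, ha2⟩ ⟨hb1, hb2⟩
    refine ⟨by rw [Prod.snd_add, ha1, hb1, add_zero], fun i hi => ?_⟩
    rw [Prod.fst_add, Pi.add_apply, ha2 i hi, hb2 i hi, add_zero]
  zero_mem' := ⟨rfl, fun _ _ => rfl⟩
  smul_mem' := by
    rintro c a ⟨ha1, ha2⟩
    refine ⟨by rw [Prod.smul_snd, ha1, smul_zero], fun i hi => ?_⟩
    rw [Prod.smul_fst, Pi.smul_apply, ha2 i hi, smul_zero]

theorem mem_Vfl (j : ℕ) (v : QV F n W) :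
    v ∈ Vfl F n W j ↔ v.2 = 0 ∧ ∀ i : Fin n, j ≤ rk i → v.1 i = 0 := Iff.rfl

/-- `g` maps every member `V_j`, `j ≤ n/2`, of the flag into itself -/
def IsUpQ {Q₀ : QuadraticForm F W} (g : GQ n Q₀) : Prop :=
  ∀ j : ℕ, j ≤ n / 2 → ∀ v ∈ Vfl F n W j, le g v ∈ Vfl F n W j

/-- `g` maps every frame vector to a multiple of a frame vector -/
def IsMonoQ {Q₀ : QuadraticForm F W} (g : GQ n Q₀) : Prop :=
  ∀ j : Fin n, ∃ (i : Fin n) (c : F), le g (xv W j) = c • xv W i

/-- the Borel subgroup: the stabiliser of the flag `V_1 < ... < V_{n/2}` -/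
def BQ (n : ℕ) (Q₀ : QuadraticForm F W) : Subgroup (GQ n Q₀) where
  carrier := {g | IsUpQ g ∧ IsUpQ g⁻¹}
  mul_mem' := by
    rintro a b ⟨ha, ha'⟩ ⟨hb, hb'⟩
    refine ⟨fun j hj v hv => ha j hj _ (hb j hj v hv), ?_⟩
    rw [mul_inv_rev]
    exact fun j hj v hv => hb' j hj _ (ha' j hj v hv)
  one_mem' := ⟨fun _ _ _ hv => hv, by rw [inv_one]; exact fun _ _ _ hv => hv⟩
  inv_mem' := by
    rintro a ⟨ha, ha'⟩
    exact ⟨ha', by rw [inv_inv]; exact ha⟩

/-- the monomial subgroup: the stabiliser of the frame -/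
def NQ (n : ℕ) (Q₀ : QuadraticForm F W) : Subgroup (GQ n Q₀) where
  carrier := {g | IsMonoQ g ∧ IsMonoQ g⁻¹}
  mul_mem' := by
    rintro a b ⟨ha, ha'⟩ ⟨hb, hb'⟩
    constructor
    · intro j
      obtain ⟨i, c, h⟩ := hb j
      obtain ⟨i', c', h'⟩ := ha i
      exact ⟨i', c * c', by rw [le_mul, h, map_smul, h', smul_smul]⟩
    · rw [mul_inv_rev]
      intro j
      obtain ⟨i, c, h⟩ := ha' j
      obtain ⟨i', c', h'⟩ := hb' i
      exact ⟨i', c * c', by rw [le_mul, h, map_smul, h', smul_smul]⟩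
  one_mem' := ⟨fun j => ⟨j, 1, by rw [le_one, one_smul]⟩,
    by rw [inv_one]; exact fun j => ⟨j, 1, by rw [le_one, one_smul]⟩⟩
  inv_mem' := by
    rintro a ⟨ha, ha'⟩
    exact ⟨ha', by rw [inv_inv]; exact ha⟩

/-- the torus -/
noncomputable def TQ (n : ℕ) (Q₀ : QuadraticForm F W) : Subgroup (GQ n Q₀) := BQ n Q₀ ⊓ NQ n Q₀

/-- the set of simple reflections -/
def SQ (hn : Even n) (Q₀ : QuadraticForm F W) : Set (GQ n Q₀) := Set.range (sQ hn Q₀)

/-- enumeration of the simple reflections -/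
noncomputable def sigmaQ (hn : Even n) (Q₀ : QuadraticForm F W) (i : ℕ) : GQ n Q₀ :=
  if h : i < n / 2 then sQ hn Q₀ ⟨i, h⟩ else 1

/-- the Siegel element centred at the frame vector `x_a`, for `y ⟂ x_a` -/
noncomputable def sgX (hn : Even n) (Q₀ : QuadraticForm F W) (a : Fin n) (y : QV F n W)
    (hy : y.1 (rv a) = 0) : GQ n Q₀ :=
  siegG (frQ n Q₀) (xv W a) y (frQ_xv Q₀ hn a)
    (by rw [polar_comm, polar_xv hn, hy])

theorem sgX_apply (hn : Even n) (Q₀ : QuadraticForm F W) (a : Fin n) (y : QV F n W)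
    (hy : y.1 (rv a) = 0) (v : QV F n W) :
    le (sgX hn Q₀ a y hy) v =
      v + polar (frQ n Q₀) v y • xv W a - v.1 (rv a) • (y + frQ n Q₀ y • xv W a) := by
  unfold sgX
  rw [le, siegG_apply, polar_xv hn]

/-- the parameter space of the root group of the node `k`: the line of `x_{rv (pc k)}` for the
nodes of type `A`, the anisotropic part `W` for the last node -/
def Yk (F : Type u) [Field F] (W : Type v) [AddCommGroup W] [Module F W] (k : Fin (n / 2)) :
    Set (QV F n W) :=
  {y | (pc k ≠ rv (pa k) → ∃ t : F, y = t • xv W (rv (pc k))) ∧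
    (pc k = rv (pa k) → ∃ w : W, y = wv F n w)}

theorem Yk_perp (hn : Even n) (k : Fin (n / 2)) {y : QV F n W} (hy : y ∈ Yk F W k) :
    y.1 (rv (pa k)) = 0 := by
  by_cases h : pc k = rv (pa k)
  · obtain ⟨w, rfl⟩ := hy.2 h
    rfl
  · obtain ⟨t, rfl⟩ := hy.1 h
    rw [Prod.smul_fst, Pi.smul_apply, xv_fst, if_neg, smul_zero]
    intro e
    exact pa_ne_pc k (rv_inj e)

/-- the root group of the node `k` (as a set) -/
def Uk (hn : Even n) (Q₀ : QuadraticForm F W) (k : Fin (n / 2)) : Set (GQ n Q₀) :=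
  {g | ∃ (y : QV F n W) (hy : y ∈ Yk F W k), g = sgX hn Q₀ (pa k) y (Yk_perp hn k hy)}

end frame

end Cfsg.Agent.Lib.Helper18.QBN
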