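import Mathlib
import Cfsg.Agent.Lib.Helper18.SDM.Defs

/-!
# Project SDM (designer helper18): the small definitions used by the rows of the skeleton
(`Cfsg/Agent/Lib/Helper18/SDM/Skel.lean.txt`).
-/

set_option autoImplicit false
set_option linter.unusedSectionVars false
set_option linter.unusedVariables false

namespace Cfsg.Agent.Lib.Helper18.QBN

open Cfsg.Agent.Lib.helper14.UBN QuadraticMap

universe u v

variable {F : Type u} [Field F] {W : Type v} [AddCommGroup W] [Module F W] {n : ℕ}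

/-- `g` maps the frame vector `x_j` to a multiple of `x_{π j}` -/
def IsPermOf {Q₀ : QuadraticForm F W} (g : GQ n Q₀) (π : Equiv.Perm (Fin n)) : Prop :=
  ∀ j : Fin n, ∃ c : F, le g (xv W j) = c • xv W (π j)

/-- `g` is diagonal on the outer frame vectors `x_i`, `rk i < j` or `rk (rv i) < j` -/
def DiagOut {Q₀ : QuadraticForm F W} (j : ℕ) (g : GQ n Q₀) : Prop :=
  ∀ i : Fin n, (rk i < j ∨ rk (rv i) < j) → ∃ c : F, le g (xv W i) = c • xv W i

/-- the positive Siegel elements: centre `x_a` in the lower half, `y` supported strictly between `a` and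
`rv a` (and on `W`) -/
def SgSet (hn : Even n) (Q₀ : QuadraticForm F W) : Set (GQ n Q₀) :=
  {g | ∃ (a : Fin n) (y : QV F n W) (hy : y.1 (rv a) = 0), rk a < rk (rv a) ∧
    (∀ i : Fin n, rk i ≤ rk a → y.1 i = 0) ∧ (∀ i : Fin n, rk (rv a) ≤ rk i → y.1 i = 0) ∧
    g = sgX hn Q₀ a y hy}

/-- the longest element -/
noncomputable def nLongQ (hn : Even n) (Q₀ : QuadraticForm F W) : GQ n Q₀ :=
  permG hn Q₀ (rvPerm n) RvC_rvPerm

/-- `g` acts trivially on the sections `V_{j+1}/V_j` and on `V_m^⊥/V_m ≅ W` -/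
def IsUniQ {Q₀ : QuadraticForm F W} (g : GQ n Q₀) : Prop :=
  (∀ i : Fin n, rk i < n / 2 → (le g (xv W i)).1 i = 1) ∧ ∀ w : W, (le g (wv F n w)).2 = w

end Cfsg.Agent.Lib.Helper18.QBN
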