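import Mathlib
import Cfsg.Agent.Lib.Helper18.SDM.Defs2

/-!
# Project SDM (designer helper18): definitions for PART 2 of the skeleton:
the unipotent radical `UQ`, reflections `reflG`, the binary form `binQ`.
-/

set_option autoImplicit false
set_option linter.unusedSectionVars false
set_option linter.unusedVariables false

namespace Cfsg.Agent.Lib.Helper18.QBN

open Cfsg.Agent.Lib.helper14.UBN QuadraticMap

universe u v

section refl

variable {F : Type u} [Field F] {V : Type v} [AddCommGroup V] [Module F V]

/-- the reflection `v ↦ v - f(v,y)/Q(y) y` as a linear map -/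
noncomputable def reflL (Q : QuadraticForm F V) (y : V) : V →ₗ[F] V :=
  LinearMap.id - (Q y)⁻¹ • LinearMap.smulRight ((polarBilin Q).flip y) y

theorem reflL_apply (Q : QuadraticForm F V) (y v : V) :
    reflL Q y v = v - ((Q y)⁻¹ * polar Q v y) • y := by
  simp [reflL, smul_smul]

theorem reflL_Q (Q : QuadraticForm F V) {y : V} (hy : Q y ≠ 0) (v : V) :
    Q (reflL Q y v) = Q v := by
  rw [reflL_apply, sub_eq_add_neg, ← neg_smul,
    QuadraticMap.map_add (⇑Q) v ((-((Q y)⁻¹ * polar Q v y)) • y), QuadraticMap.map_smul,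
    polar_smul_right, smul_eq_mul, smul_eq_mul]
  field_simp
  ring

theorem reflL_invol (Q : QuadraticForm F V) {y : V} (hy : Q y ≠ 0) (v : V) :
    reflL Q y (reflL Q y v) = v := by
  have h2 : polar Q y y = 2 * Q y := by
    rw [polar_self]
    simp
  rw [reflL_apply, reflL_apply, polar_sub_left, polar_smul_left, h2, smul_eq_mul]
  have e : (Q y)⁻¹ * (polar Q v y - (Q y)⁻¹ * polar Q v y * (2 * Q y)) = -((Q y)⁻¹ * polar Q v y) := by
    field_simp
    ring
  rw [e, neg_smul]
  abel

/-- the reflection as a linear equivalence -/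
noncomputable def reflE (Q : QuadraticForm F V) (y : V) (hy : Q y ≠ 0) : V ≃ₗ[F] V :=
  LinearEquiv.ofLinearMap (reflL Q y) (reflL Q y)
    (by ext v; exact reflL_invol Q hy v) (by ext v; exact reflL_invol Q hy v)

/-- the reflection along a non-singular vector, as an element of the isometry group -/
noncomputable def reflG (Q : QuadraticForm F V) (y : V) (hy : Q y ≠ 0) : ↥(OQ Q) :=
  ⟨reflE Q y hy, fun v => reflL_Q Q hy v⟩

theorem reflG_apply (Q : QuadraticForm F V) (y : V) (hy : Q y ≠ 0) (v : V) :
    ((reflG Q y hy : ↥(OQ Q)) : V ≃ₗ[F] V) v = v - ((Q y)⁻¹ * polar Q v y) • y :=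
  reflL_apply Q y v

theorem reflG_mul_self (Q : QuadraticForm F V) (y : V) (hy : Q y ≠ 0) :
    reflG Q y hy * reflG Q y hy = 1 := by
  apply Subtype.ext
  apply LinearEquiv.ext
  intro v
  exact reflL_invol Q hy v

end refl

section frame

variable {F : Type u} [Field F] {W : Type v} [AddCommGroup W] [Module F W] {n : ℕ}

/-- the unipotent radical of `BQ`: the subgroup generated by the positive Siegel elements -/
noncomputable def UQ (hn : Even n) (Q₀ : QuadraticForm F W) : Subgroup (GQ n Q₀) :=
  Subgroup.closure (SgSet hn Q₀)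

/-- the binary form `z₁² + a z₁ z₂ + b z₂²` -/
noncomputable def binQ (a b : F) : QuadraticForm F (Fin 2 → F) :=
  QuadraticMap.sq.comp (LinearMap.proj 0) +
    a • QuadraticMap.linMulLin (LinearMap.proj 0) (LinearMap.proj 1) +
    b • QuadraticMap.sq.comp (LinearMap.proj 1)

theorem binQ_apply (a b : F) (w : Fin 2 → F) :
    binQ a b w = w 0 ^ 2 + a * w 0 * w 1 + b * w 1 ^ 2 := by
  unfold binQ
  simp [pow_two]
  ring

end frame

end Cfsg.Agent.Lib.Helper18.QBN
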