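import Mathlib
import Cfsg.Agent.Lib.Helper18.SDM.Defs3
import Cfsg.Agent.Lib.helper15.SDME6core
import Cfsg.Agent.Lib.Helper5.SDME1
import Cfsg.Agent.Lib.Helper21.SDME2
import Cfsg.Agent.Lib.Helper22.SDME3
import Cfsg.Agent.Lib.Helper10.SDMB3
import Cfsg.Agent.Lib.Helper25.SDMCONJ
import Cfsg.Agent.Lib.helper15.SDMINJ
import Cfsg.Agent.Lib.Helper25.SDMW1
import Cfsg.Agent.Lib.Helper11.SDMA1
import Cfsg.Agent.Lib.Helper11.SDMA2

/-!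
# Project SDM (designer helper18): ASSEMBLY of the (B,N)-pair of `GO(V,Q)` from the rows of Part 1.
-/

set_option autoImplicit false
set_option linter.unusedSectionVars false
set_option linter.unusedVariables false

namespace Cfsg.Agent.Lib.Helper18.QBN

open Cfsg.Agent.Lib.helper14.UBN QuadraticMap

universe u v

variable {F : Type u} [Field F] {W : Type v} [AddCommGroup W] [Module F W] {n : ℕ}

/-- row E5 from helper15's core -/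
theorem sdmasm_BQ_sup_NQ (hn : Even n) (Q₀ : QuadraticForm F W) (hQ₀ : ∀ w : W, Q₀ w = 0 → w = 0) :
    BQ n Q₀ ⊔ NQ n Q₀ = ⊤ :=
  sdme5_core hn Q₀ (fun j hj a ha g hg => diag_step_perm hn Q₀ hQ₀ j hj a ha g hg)
    (fun j hj a ha g hg hne => diag_step_col hn Q₀ j hj a ha g hg hne)
    (fun j hj a ha g hg hc => diag_step_row hn Q₀ j hj a ha g hg hc)
    (fun h hh => SgSet_subset_BQ hn Q₀ h hh) (fun g => mem_TQ_iff hn g)

/-- row E6 from helper15's core -/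
theorem sdmasm_BQ_eq_Sg_mul_T (hn : Even n) (Q₀ : QuadraticForm F W) (b : GQ n Q₀)
    (hb : b ∈ BQ n Q₀) : ∃ u ∈ Subgroup.closure (SgSet hn Q₀), ∃ t ∈ TQ n Q₀, b = u * t :=
  sdme6_core hn Q₀ (fun j hj a ha g hg hc => diag_step_row hn Q₀ j hj a ha g hg hc)
    (fun h hh => SgSet_subset_BQ hn Q₀ h hh) (fun g => mem_TQ_iff hn g) b hb

/-- the (B,N)-pair of `GO(V, Q)` -/
noncomputable def qbnPair (hn : Even n) (Q₀ : QuadraticForm F W) (hQ₀ : ∀ w : W, Q₀ w = 0 → w = 0)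
    (hW : ∃ w : W, w ≠ 0) : Cfsg.BNPair (GQ n Q₀) where
  B := BQ n Q₀
  N := NQ n Q₀
  S := SQ hn Q₀
  sup_eq_top := sdmasm_BQ_sup_NQ hn Q₀ hQ₀
  conj_mem := fun g hg t ht => conj_torus_mem hn g t hg ht
  subset := by
    rintro _ ⟨k, rfl⟩
    exact sQ_mem_NQ hn Q₀ k
  sq_mem := by
    rintro _ ⟨k, rfl⟩
    show sQ hn Q₀ k * sQ hn Q₀ k ∈ BQ n Q₀
    rw [sQ_mul_self]
    exact (BQ n Q₀).one_mem
  inj := by
    rintro _ ⟨k, rfl⟩ _ ⟨k', rfl⟩ h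
    exact sQ_injective_mod hn Q₀ k k' h
  closure_sup := closure_SQ_sup hn Q₀
  mul_mem_union := by
    rintro _ ⟨k, rfl⟩ g hg b hb
    exact qbn_mul_mem_union hn Q₀ hQ₀ k g hg b hb
  conj_ne := by
    rintro _ ⟨k, rfl⟩
    exact sQ_conj_ne hn Q₀ hW k

theorem qbnPair_B (hn : Even n) (Q₀ : QuadraticForm F W) (hQ₀ : ∀ w : W, Q₀ w = 0 → w = 0)
    (hW : ∃ w : W, w ≠ 0) : (qbnPair hn Q₀ hQ₀ hW).B = BQ n Q₀ := rfl

theorem qbnPair_N (hn : Even n) (Q₀ : QuadraticForm F W) (hQ₀ : ∀ w : W, Q₀ w = 0 → w = 0)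
    (hW : ∃ w : W, w ≠ 0) : (qbnPair hn Q₀ hQ₀ hW).N = NQ n Q₀ := rfl

theorem qbnPair_S (hn : Even n) (Q₀ : QuadraticForm F W) (hQ₀ : ∀ w : W, Q₀ w = 0 → w = 0)
    (hW : ∃ w : W, w ≠ 0) : (qbnPair hn Q₀ hQ₀ hW).S = SQ hn Q₀ := rfl

end Cfsg.Agent.Lib.Helper18.QBN
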